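import Mathlib

/-!
# The combinatorial lemma `count` (helper46, for helper370's S3624 / S3451, task 1349)

A family of primes is distributed over classes with costs; low classes, high classes and bad classes are counted
separately.
-/

set_option autoImplicit false

namespace Cfsg.Agent.H46.DP

open Finset

/-- a set of classes has a transversal -/
theorem transversal {R : Finset ℕ} (cls : ℕ → ℕ) {S : Finset ℕ} (hS : S ⊆ R.image cls) :
    ∃ T ⊆ R, Set.InjOn cls (T : Set ℕ) ∧ T.image cls = S ∧ T.card = S.card := by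
  classical
  have hsurj : Set.SurjOn cls (R : Set ℕ) (S : Set ℕ) := by
    intro e he
    obtain ⟨r, hr, rfl⟩ := Finset.mem_image.1 (hS (Finset.mem_coe.1 he))
    exact ⟨r, Finset.mem_coe.2 hr, rfl⟩
  obtain ⟨T, h1, h2, h3⟩ := Finset.exists_subset_injOn_image_eq_of_surjOn _ _ hsurj
  refine ⟨T, by exact_mod_cast h1, h2, h3, ?_⟩
  rw [← h3, Finset.card_image_of_injOn h2]

/-- sum of the fibre bounds over an interval -/
theorem sum_odd (a n : ℕ) : 2 * ∑ t ∈ Finset.Ioc a (a + n), (if Odd t then 2 else 1) ≤ 3 * n + 1 := by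
  induction n using Nat.twoStepInduction with
  | zero => simp
  | one =>
    rw [Finset.sum_Ioc_succ_top (by omega), Finset.Ioc_self, Finset.sum_empty]
    split_ifs <;> omega
  | more n ih _ =>
    have e1 : a + (n + 2) = (a + n + 1) + 1 := by ring
    rw [e1, Finset.sum_Ioc_succ_top (by omega), Finset.sum_Ioc_succ_top (by omega)]
    by_cases h : Odd (a + n + 1)
    · have h' : ¬ Odd (a + n + 1 + 1) := by
        rw [Nat.not_odd_iff_even]; exact h.add_one
      rw [if_pos h, if_neg h']
      omega
    · have h' : Odd (a + n + 1 + 1) := by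
        rw [Nat.not_odd_iff_even] at h; exact h.add_one
      rw [if_neg h, if_pos h']
      omega

theorem arith_six {c a d M : ℕ} (h2 : 2 ≤ c) (hd : 0 < d) (e1 : c * (a + d) ≤ M) (e2 : M ≤ (c + 1) * a + c) :
    6 * d ≤ M + 4 := by
  obtain ⟨d', rfl⟩ : ∃ d', d = d' + 1 := ⟨d - 1, by omega⟩
  obtain ⟨c', rfl⟩ : ∃ c', c = c' + 2 := ⟨c - 2, by omega⟩
  have e3 : (c' + 2) * d' ≤ a := by nlinarith
  have e4 : 2 * d' ≤ (c' + 2) * d' := Nat.mul_le_mul_right _ (by omega)
  have e5 : 2 * (a + (d' + 1)) ≤ (c' + 2) * (a + (d' + 1)) := Nat.mul_le_mul_right _ (by omega)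
  omega

theorem arith_fin {c k M Lc Lf Ln Sg d RLc ER RH RB R E ck ck1 : ℕ} (hck : c ≤ k) (hck3 : ck ≤ k ^ 2)
    (hck2 : ck1 + c = ck) (hd6 : 6 * d ≤ M + 4) (hL : Lf + Ln = Lc) (hC : Lf ≤ c) (hD : Ln ≤ Sg)
    (hso : 2 * Sg ≤ 3 * d + 1) (hRL : RLc ≤ 1 * Lc) (h1 : ER + RH ≤ ck1) (hbad : 2 * RB ≤ M + 2 + 4 * c)
    (hR : R ≤ RLc + RH + RB) (hE : E = ER + R) : 4 * E ≤ 3 * M + 4 * (k ^ 2 + 2 * k + 6) := by
  omega

theorem arith_one {k M Lc Lf Ln Sg d RLc ER RH RB R E : ℕ} (hck : 1 ≤ k)
    (hd6 : 2 * d ≤ M + 1) (hL : Lf + Ln = Lc) (hC : Lf ≤ 1) (hD : Ln ≤ Sg)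
    (hso : 2 * Sg ≤ 3 * d + 1) (hRL : RLc ≤ 1 * Lc) (h1 : ER + RH ≤ 1 * (k - 1)) (hbad : RB ≤ 2)
    (hR : R ≤ RLc + RH + RB) (hE : E = ER + R) : 4 * E ≤ 3 * M + 4 * (k ^ 2 + 2 * k + 6) := by
  have : 0 ≤ k ^ 2 := Nat.zero_le _
  omega

theorem arith_two {c k M RLc ER RH RB R E ck ck1 cc cc1 : ℕ} (hck3 : ck ≤ k ^ 2) (hcc : cc ≤ k ^ 2)
    (hck2 : ck1 + c = ck) (hcc1 : cc1 + c = cc) (hRL : RLc ≤ cc1) (h1 : ER + RH ≤ ck1)
    (hbad : 2 * RB ≤ M + 2 + 4 * c)
    (hR : R ≤ RLc + RH + RB) (hE : E = ER + R) : 4 * E ≤ 2 * M + 4 * (2 * k ^ 2 + 1) := by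
  omega

theorem count {I : Finset ℕ → Prop} (hmono : ∀ T T' : Finset ℕ, I T → T' ⊆ T → I T') {k c M D : ℕ} (hc : 1 ≤ c) (hck : c ≤ k)
    {E R : Finset ℕ} (hRE : R ⊆ E) {cls cost lin : ℕ → ℕ}
    (h0 : ∀ T ⊆ E, I T → T ⊆ R)
    (hP1 : ∀ T ⊆ E, I T → T.card ≤ c) (hP2 : ∀ T ⊆ E, T.card = k → ∃ A ⊆ T, A.card = c ∧ I A)
    (hJ : ∀ T ⊆ R, ∑ e ∈ T.image cls, cost e ≤ M → I T)
    (hJ1 : ∀ T ⊆ R, ∀ e, (∀ r ∈ T, cls r = e) → I T)
    (htop : ∀ r ∈ R, cost (cls r) ≤ M + 1) (hcost : ∀ r ∈ R, 1 ≤ cost (cls r))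
    (hfib : ∀ t, ((R.image cls).filter (fun e => cost e = t)).card ≤ if Odd t then 2 else 1)
    (hL : ∀ A ⊆ R, I A → Set.InjOn cls (A : Set ℕ) → (∀ r ∈ A, D < c * lin (cls r)) → A.card < c)
    (hB : 2 * c * ((R.image cls).filter (fun e => M < c * cost e ∧ c * lin e ≤ D)).card ≤ M + 2 + 4 * c) :
    4 * E.card ≤ 3 * M + 4 * (k ^ 2 + 2 * k + 6) ∨ 4 * E.card ≤ 2 * M + 4 * (2 * k ^ 2 + 1) := by
  classical
  have _ := hmono
  have _ := hcost
  -- each class has at most `c` members
  have hcl : ∀ e, (R.filter (fun r => cls r = e)).card ≤ c := by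
    intro e
    refine hP1 _ ((Finset.filter_subset _ _).trans hRE) (hJ1 _ (Finset.filter_subset _ _) e ?_)
    intro r hr
    exact (Finset.mem_filter.1 hr).2
  have hcount : ∀ (P : ℕ → Prop) [DecidablePred P], (R.filter (fun r => P (cls r))).card ≤ c * ((R.image cls).filter P).card := by
    intro P _
    refine Finset.card_le_mul_card_image_of_maps_to (f := cls) ?_ c ?_
    · intro r hr
      rw [Finset.mem_filter] at hr
      exact Finset.mem_filter.2 ⟨Finset.mem_image_of_mem _ hr.1, hr.2⟩
    · intro e _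
      refine (Finset.card_le_card ?_).trans (hcl e)
      intro r hr
      rw [Finset.mem_filter, Finset.mem_filter] at hr
      exact Finset.mem_filter.2 ⟨hr.1.1, hr.2⟩
  -- the three kinds of classes
  set L := (R.image cls).filter (fun e => c * cost e ≤ M) with hLdef
  set H := (R.image cls).filter (fun e => M < c * cost e ∧ D < c * lin e) with hHdef
  set B := (R.image cls).filter (fun e => M < c * cost e ∧ c * lin e ≤ D) with hBdef
  set RL := R.filter (fun r => c * cost (cls r) ≤ M) with hRL
  set RH := R.filter (fun r => M < c * cost (cls r) ∧ D < c * lin (cls r)) with hRH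
  set RB := R.filter (fun r => M < c * cost (cls r) ∧ c * lin (cls r) ≤ D) with hRB
  have hR : R.card ≤ RL.card + RH.card + RB.card := by
    have hsub : R ⊆ RL ∪ RH ∪ RB := by
      intro r hr
      rw [Finset.mem_union, Finset.mem_union, hRL, hRH, hRB, Finset.mem_filter, Finset.mem_filter, Finset.mem_filter]
      rcases le_or_gt (c * cost (cls r)) M with h | h
      · exact Or.inl (Or.inl ⟨hr, h⟩)
      · rcases le_or_gt (c * lin (cls r)) D with h' | h'
        · exact Or.inr ⟨hr, h, h'⟩
        · exact Or.inl (Or.inr ⟨hr, h, h'⟩)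
    calc R.card ≤ (RL ∪ RH ∪ RB).card := Finset.card_le_card hsub
      _ ≤ (RL ∪ RH).card + RB.card := Finset.card_union_le _ _
      _ ≤ RL.card + RH.card + RB.card := by
          have := Finset.card_union_le RL RH
          omega
  have hE : E.card = (E \ R).card + R.card := by
    rw [Finset.card_sdiff_add_card_eq_card hRE]
  -- high classes
  have hhigh : (E \ R).card + H.card ≤ k - 1 := by
    by_contra hcon
    have hk : k ≤ (E \ R).card + H.card := by omega
    obtain ⟨T, hTR, hTinj, hTim, hTcard⟩ := transversal (R := R) cls (S := H) (Finset.filter_subset _ _)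
    have hdisj : Disjoint (E \ R) T := by
      rw [Finset.disjoint_left]
      intro r hr hr'
      exact (Finset.mem_sdiff.1 hr).2 (hTR hr')
    have hcardU : ((E \ R) ∪ T).card = (E \ R).card + H.card := by
      rw [Finset.card_union_of_disjoint hdisj, hTcard]
    obtain ⟨U, hU, hUk⟩ := Finset.exists_subset_card_eq (s := (E \ R) ∪ T) (n := k) (by omega)
    have hUE : U ⊆ E := by
      refine hU.trans (Finset.union_subset Finset.sdiff_subset (hTR.trans hRE))
    obtain ⟨A, hA, hAc, hAI⟩ := hP2 U hUE hUk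
    have hAR : A ⊆ R := h0 A (hA.trans hUE) hAI
    have hAT : A ⊆ T := by
      intro r hr
      rcases Finset.mem_union.1 (hU (hA hr)) with h | h
      · exact absurd (hAR hr) (Finset.mem_sdiff.1 h).2
      · exact h
    have := hL A hAR hAI (hTinj.mono (by exact_mod_cast hAT)) (by
      intro r hr
      have h1 : cls r ∈ H := by
        rw [← hTim]
        exact Finset.mem_image_of_mem _ (hAT hr)
      exact (Finset.mem_filter.1 h1).2.2)
    omega
  have hRHc : RH.card ≤ c * H.card := hcount (fun e => M < c * cost e ∧ D < c * lin e)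
  have hRBc : RB.card ≤ c * B.card := hcount (fun e => M < c * cost e ∧ c * lin e ≤ D)
  have hRLc : RL.card ≤ c * L.card := hcount (fun e => c * cost e ≤ M)
  have h1 : (E \ R).card + RH.card ≤ c * (k - 1) := by
    calc (E \ R).card + RH.card ≤ c * (E \ R).card + c * H.card := by nlinarith
      _ = c * ((E \ R).card + H.card) := by ring
      _ ≤ c * (k - 1) := Nat.mul_le_mul_left _ hhigh
  -- bad classes
  have hbad : 2 * RB.card ≤ M + 2 + 4 * c := by
    calc 2 * RB.card ≤ 2 * (c * B.card) := by omega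
      _ = 2 * c * B.card := by ring
      _ ≤ _ := hB
  have hbad1 : c = 1 → RB.card ≤ 2 := by
    intro hc1
    have h2 : B ⊆ (R.image cls).filter (fun e => cost e = M + 1) := by
      intro e he
      obtain ⟨he1, he2, -⟩ := Finset.mem_filter.1 he
      obtain ⟨r, hr, rfl⟩ := Finset.mem_image.1 he1
      refine Finset.mem_filter.2 ⟨he1, ?_⟩
      have := htop r hr
      rw [hc1, one_mul] at he2
      omega
    have h3 : B.card ≤ 2 := by
      refine ((Finset.card_le_card h2).trans (hfib (M + 1))).trans ?_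
      split_ifs <;> omega
    rw [hc1, one_mul] at hRBc
    omega
  -- low classes
  rcases le_or_gt c L.card with hLc | hLc
  · left
    -- the sum of costs over a set of classes
    have hsum : ∀ (n : ℕ) (S : Finset ℕ), 0 < n → S.card = n → (∀ e ∈ S, n * cost e ≤ M) → ∑ e ∈ S, cost e ≤ M := by
      intro n S hn hS h
      have : n * ∑ e ∈ S, cost e ≤ n * M := by
        rw [Finset.mul_sum]
        calc ∑ e ∈ S, n * cost e ≤ ∑ _e ∈ S, M := Finset.sum_le_sum h
          _ = n * M := by rw [Finset.sum_const, hS, smul_eq_mul]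
      exact Nat.le_of_mul_le_mul_left this hn
    have hone : ∀ e ∈ L, (R.filter (fun r => cls r = e)).card ≤ 1 := by
      intro e he
      rw [Finset.card_le_one]
      intro r1 hr1 r2 hr2
      by_contra hne
      obtain ⟨S, hS1, hS2, hS3⟩ := Finset.exists_subsuperset_card_eq (s := {e}) (t := L) (n := c)
        (by simpa using he) (by simpa using hc) hLc
      obtain ⟨T, hTR, hTinj, hTim, hTcard⟩ := transversal (R := R) cls (S := S)
        (hS2.trans (Finset.filter_subset _ _))
      rw [Finset.mem_filter] at hr1 hr2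
      have heS : e ∈ S := hS1 (Finset.mem_singleton_self e)
      have hex : ∃ r ∈ R, cls r = e ∧ r ∉ T := by
        by_cases h : r1 ∈ T
        · refine ⟨r2, hr2.1, hr2.2, fun h' => hne ?_⟩
          exact hTinj (Finset.mem_coe.2 h) (Finset.mem_coe.2 h') (by rw [hr1.2, hr2.2])
        · exact ⟨r1, hr1.1, hr1.2, h⟩
      obtain ⟨r, hrR, hre, hrT⟩ := hex
      have hI : I (insert r T) := by
        refine hJ _ (Finset.insert_subset hrR hTR) ?_
        rw [Finset.image_insert, hTim, hre, Finset.insert_eq_of_mem heS]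
        exact hsum c S hc hS3 fun e' he' => (Finset.mem_filter.1 (hS2 he')).2
      have := hP1 _ ((Finset.insert_subset hrR hTR).trans hRE) hI
      rw [Finset.card_insert_of_notMem hrT] at this
      omega
    have hRLL : RL.card ≤ 1 * L.card := by
      refine Finset.card_le_mul_card_image_of_maps_to (f := cls) ?_ 1 ?_
      · intro r hr
        rw [Finset.mem_filter] at hr
        exact Finset.mem_filter.2 ⟨Finset.mem_image_of_mem _ hr.1, hr.2⟩
      · intro e he
        refine (Finset.card_le_card ?_).trans (hone e he)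
        intro r hr
        rw [Finset.mem_filter, Finset.mem_filter] at hr
        exact Finset.mem_filter.2 ⟨hr.1.1, hr.2⟩
    have hLsplit := Finset.card_filter_add_card_filter_not (s := L) (fun e => (c + 1) * cost e ≤ M)
    have hC : (L.filter (fun e => (c + 1) * cost e ≤ M)).card ≤ c := by
      by_contra hcon
      obtain ⟨S, hS, hSc⟩ := Finset.exists_subset_card_eq (s := L.filter (fun e => (c + 1) * cost e ≤ M)) (n := c + 1)
        (by omega)
      obtain ⟨T, hTR, hTinj, hTim, hTcard⟩ := transversal (R := R) cls (S := S)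
        ((hS.trans (Finset.filter_subset _ _)).trans (Finset.filter_subset _ _))
      have hI : I T := by
        refine hJ _ hTR ?_
        rw [hTim]
        exact hsum (c + 1) S (by omega) hSc fun e' he' => (Finset.mem_filter.1 (hS he')).2
      have := hP1 _ (hTR.trans hRE) hI
      omega
    have hD : (L.filter (fun e => ¬ (c + 1) * cost e ≤ M)).card ≤
        ∑ t ∈ Finset.Ioc (M / (c + 1)) (M / c), (if Odd t then 2 else 1) := by
      rw [Finset.card_eq_sum_card_fiberwise (f := cost) (t := Finset.Ioc (M / (c + 1)) (M / c))]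
      · refine Finset.sum_le_sum fun t _ => ?_
        refine (Finset.card_le_card ?_).trans (hfib t)
        intro e he
        rw [Finset.mem_filter, Finset.mem_filter, Finset.mem_filter] at he
        exact Finset.mem_filter.2 ⟨he.1.1.1, he.2⟩
      · intro e he
        have he' := Finset.mem_filter.1 (Finset.mem_coe.1 he)
        have he2 := (Finset.mem_filter.1 he'.1).2
        rw [Finset.mem_coe, Finset.mem_Ioc]
        constructor
        · rw [Nat.div_lt_iff_lt_mul (by omega)]
          have := he'.2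
          rw [mul_comm]
          omega
        · rw [Nat.le_div_iff_mul_le hc, mul_comm]
          exact he2
    have hab : M / (c + 1) ≤ M / c := Nat.div_le_div_left (by omega) hc
    obtain ⟨d, hd⟩ := Nat.exists_eq_add_of_le hab
    have hso := sum_odd (M / (c + 1)) d
    rw [← hd] at hso
    set Sg := ∑ t ∈ Finset.Ioc (M / (c + 1)) (M / c), (if Odd t then 2 else 1) with hSg
    have hck2 : c * (k - 1) + c = c * k := by
      have : k - 1 + 1 = k := by omega
      calc c * (k - 1) + c = c * (k - 1 + 1) := by ring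
        _ = c * k := by rw [this]
    have hck3 : c * k ≤ k ^ 2 := by nlinarith
    rcases Nat.lt_or_ge c 2 with h2 | h2
    · have hc1 : c = 1 := by omega
      have := hbad1 hc1
      have hd' : 2 * d ≤ M + 1 := by
        have h3 : M / c = M := by rw [hc1]; exact Nat.div_one M
        have h4 : M / (c + 1) = M / 2 := by rw [hc1]
        omega
      rw [hc1] at h1
      exact arith_one (by omega) hd' hLsplit (by omega) hD hso hRLL h1 this hR hE
    · have hd6 : 6 * d ≤ M + 4 := by
        rcases Nat.eq_zero_or_pos d with h0' | h0'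
        · omega
        · have e1 : c * (M / c) ≤ M := Nat.mul_div_le M c
          have e2 : M ≤ (c + 1) * (M / (c + 1)) + c := by
            have := Nat.div_add_mod M (c + 1)
            have := Nat.mod_lt M (show 0 < c + 1 by omega)
            omega
          rw [hd] at e1
          exact arith_six h2 h0' e1 e2
      exact arith_fin hck hck3 hck2 hd6 hLsplit hC hD hso hRLL h1 hbad hR hE
  · right
    have hRL2 : RL.card ≤ c * (c - 1) := by
      refine hRLc.trans (Nat.mul_le_mul_left _ (by omega))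
    have e1 : c * (k - 1) + c = c * k := by
      have : k - 1 + 1 = k := by omega
      calc c * (k - 1) + c = c * (k - 1 + 1) := by ring
        _ = c * k := by rw [this]
    have e2 : c * (c - 1) + c = c * c := by
      have : c - 1 + 1 = c := by omega
      calc c * (c - 1) + c = c * (c - 1 + 1) := by ring
        _ = c * c := by rw [this]
    exact arith_two (ck := c * k) (cc := c * c) (by nlinarith) (by nlinarith) e1 e2 hRL2 h1 hbad hR hE

end Cfsg.Agent.H46.DP
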