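import Cfsg.Agent.H72.AdjOrth
import Cfsg.Agent.H46.DP.Orbit

/-!
# The linear lemma (helper46, task 1350, for S3624 / S3451)
-/

set_option autoImplicit false

namespace Cfsg.Agent.H46.DP

open Cfsg.Agent.H72.AdjOrth

theorem lin {F : Type*} [Field F] [Fintype F] {D : ℕ} (g : GL (Fin D) F) {A : Finset ℕ} {c : ℕ} (hc : 1 ≤ c)
    (hA : ∀ r ∈ A, r.Prime ∧ ¬ r ∣ Nat.card F ∧ r ∣ orderOf g) (hinj : Set.InjOn (ee (Nat.card F)) (A : Set ℕ))
    (hbig : ∀ r ∈ A, D < c * ee (Nat.card F) r) : A.card < c :=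
  lin_core g hc hA hinj hbig

end Cfsg.Agent.H46.DP
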